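import Groth.Agent.SGA7.RigidAut
import Groth.Agent.SGA7.DefSchGlue
import Groth.Agent.LocImm.Glue
import Groth.Agent.FlatMor2.Deform
import Groth.Agent.SmoothLift.SmallObstruction
import Groth.Agent.SmoothExt.AffineLift

/-!
Gluing lifts of deformations along a smooth affine overlap.
-/

set_option autoImplicit false
set_option linter.style.longLine false
set_option linter.style.haveILetI false

noncomputable section

universe u

open CategoryTheory AlgebraicGeometry Limits TopologicalSpace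

namespace Groth.CurveUnobs

open ArtFun Groth.ArtfunDeform Groth.SGA7Def

variable {Λ k : Type u} [CommRing Λ] [Field k] [Algebra Λ k]
variable {X : Scheme.{u}} {x : X ⟶ Art.specPt k} {A B : Art Λ k}

/-- Two opens meeting in a third give a cartesian square. -/
theorem isPullback_homOfLE {Y : Scheme.{u}} {a b c w : Y.Opens} (hwa : w ≤ a) (hwb : w ≤ b) (hac : a ≤ c)
    (hbc : b ≤ c) (hw : a ⊓ b ≤ w) :
    IsPullback (Y.homOfLE hwa) (Y.homOfLE hwb) (Y.homOfLE hac) (Y.homOfLE hbc) := by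
  refine IsOpenImmersion.isPullback (Y.homOfLE hwa) (Y.homOfLE hwb) (Y.homOfLE hac) (Y.homOfLE hbc)
    (by rw [Scheme.homOfLE_homOfLE, Scheme.homOfLE_homOfLE]) ?_
  ext p
  constructor
  · rintro ⟨q, hq⟩
    have hq' := congrArg Subtype.val hq
    rw [Scheme.homOfLE_apply, Scheme.homOfLE_apply] at hq'
    refine ⟨⟨p.1, hw ⟨hq' ▸ q.2, p.2⟩⟩, Subtype.ext ?_⟩
    rw [Scheme.homOfLE_apply]
  · rintro ⟨q, rfl⟩
    refine ⟨Y.homOfLE hwa q, ?_⟩
    rw [← Scheme.Hom.comp_apply, ← Scheme.Hom.comp_apply, Scheme.homOfLE_homOfLE, Scheme.homOfLE_homOfLE]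

/-- Morphisms agreeing on the two members of a cover are equal. -/
theorem hom_ext_two {U₁ U₂ Z Y : Scheme.{u}} (u₁ : U₁ ⟶ Z) (u₂ : U₂ ⟶ Z) [IsOpenImmersion u₁] [IsOpenImmersion u₂]
    (h : ∀ z, z ∈ Set.range u₁ ∨ z ∈ Set.range u₂) {a b : Z ⟶ Y} (h₁ : u₁ ≫ a = u₁ ≫ b) (h₂ : u₂ ≫ a = u₂ ≫ b) :
    a = b := by
  refine (Groth.LocImmersion.coverTwo u₁ u₂ h).hom_ext _ _ ?_
  rintro ⟨_ | _⟩
  · exact h₂
  · exact h₁

section Pull

variable {W : Scheme.{u}} (g : W ⟶ X) [IsOpenImmersion g] {w : W ⟶ Art.specPt k} (hw : g ≫ x = w) (ξ : DefSch X x A)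

lemma range_comp_i : Set.range (g ≫ ξ.i) ⊆ Set.range (liftOpen ξ g.opensRange).ι := by
  rw [Scheme.Opens.range_ι]
  rintro _ ⟨v, rfl⟩
  exact (preimage_liftOpen ξ g.opensRange).ge ⟨v, rfl⟩

/-- The inclusion of the closed fibre of the restriction. -/
def pullI : W ⟶ (liftOpen ξ g.opensRange).toScheme :=
  IsOpenImmersion.lift (liftOpen ξ g.opensRange).ι (g ≫ ξ.i) (range_comp_i g ξ)

lemma pullI_ι : pullI g ξ ≫ (liftOpen ξ g.opensRange).ι = g ≫ ξ.i := IsOpenImmersion.lift_fac _ _ _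

include hw in
lemma isPullback_pullI :
    IsPullback (pullI g ξ) w ((liftOpen ξ g.opensRange).ι ≫ ξ.f) (Art.specRes A) := by
  have h1 : IsPullback (pullI g ξ) g (liftOpen ξ g.opensRange).ι ξ.i :=
    (IsOpenImmersion.isPullback (pullI g ξ) g (liftOpen ξ g.opensRange).ι ξ.i (pullI_ι g ξ).symm
      (by rw [Scheme.Opens.opensRange_ι, preimage_liftOpen]))
  have h2 := h1.paste_vert ξ.isPullback
  rwa [hw] at h2

/-- The restriction of a deformation to an open subscheme. -/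
@[reducible] def pull : DefSch W w A where
  total := (liftOpen ξ g.opensRange).toScheme
  f := (liftOpen ξ g.opensRange).ι ≫ ξ.f
  flat := inferInstance
  i := pullI g ξ
  isPullback := isPullback_pullI g hw ξ

variable {g hw ξ} in
/-- Maps to the ambient deformation factor through the restriction. -/
theorem exists_lift {μ : A ⟶ B} {ξ' : DefSch W w B} (m : ξ'.total ⟶ ξ.total)
    (hf : m ≫ ξ.f = ξ'.f ≫ Art.specMap μ) (hi : ξ'.i ≫ m = g ≫ ξ.i) :
    ∃ φ : SHom μ (pull g hw ξ) ξ', φ.hom ≫ (liftOpen ξ g.opensRange).ι = m := by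
  have hr : Set.range m ⊆ Set.range (liftOpen ξ g.opensRange).ι := by
    rintro _ ⟨q, rfl⟩
    obtain ⟨v, rfl⟩ := (bijective_i ξ').2 q
    rw [← Scheme.Hom.comp_apply, hi]
    exact range_comp_i g ξ ⟨v, rfl⟩
  refine ⟨⟨IsOpenImmersion.lift (liftOpen ξ g.opensRange).ι m hr, ?_, ?_⟩, IsOpenImmersion.lift_fac _ _ _⟩
  · change _ ≫ (liftOpen ξ g.opensRange).ι ≫ ξ.f = _
    rw [IsOpenImmersion.lift_fac_assoc, hf]
  · refine (cancel_mono (liftOpen ξ g.opensRange).ι).1 ?_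
    rw [Category.assoc, IsOpenImmersion.lift_fac, hi]
    exact (pullI_ι g ξ).symm

end Pull

/-- The deformation `ξ` lifts along `μ` over the open `U`. -/
def Lifts (μ : B ⟶ A) (ξ : DefSch X x A) (U : X.Opens) : Prop :=
  ∃ η : DefSch U.toScheme (U.ι ≫ x) B, Nonempty (SHom μ η (pull U.ι rfl ξ))

lemma liftOpen_mono (ξ : DefSch X x A) {U V : X.Opens} (h : U ≤ V) :
    liftOpen ξ U.ι.opensRange ≤ liftOpen ξ V.ι.opensRange :=
  opens_le_of_preimage_le ξ (by
    rw [preimage_liftOpen, preimage_liftOpen, Scheme.Opens.opensRange_ι, Scheme.Opens.opensRange_ι]; exact h)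

lemma pullI_homOfLE (ξ : DefSch X x A) {U V : X.Opens} (h : U ≤ V) :
    pullI U.ι ξ ≫ ξ.total.homOfLE (liftOpen_mono ξ h) = X.homOfLE h ≫ pullI V.ι ξ := by
  refine (cancel_mono (liftOpen ξ V.ι.opensRange).ι).1 ?_
  rw [Category.assoc, Scheme.homOfLE_ι, pullI_ι, Category.assoc, pullI_ι, Scheme.homOfLE_ι_assoc]

/-- Total spaces of deformations of smooth schemes are smooth. -/
theorem smooth_total (ξ : DefSch X x A) [Smooth x] : Smooth ξ.f := by
  have hcY : IsPullback (Art.specRes A) (𝟙 (Art.specPt k)) (𝟙 (Art.spec A)) (Art.specRes A) :=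
    IsPullback.of_vert_isIso ⟨by rw [Category.comp_id, Category.id_comp]⟩
  haveI : Flat (ξ.f ≫ 𝟙 (Art.spec A)) := by rw [Category.comp_id]; exact ξ.flat
  have hcX : IsPullback ξ.i (x ≫ 𝟙 (Art.specPt k)) (ξ.f ≫ 𝟙 (Art.spec A)) (Art.specRes A) := by
    rw [Category.comp_id, Category.comp_id]; exact ξ.isPullback
  exact (Groth.FlatMor2.smooth_iff_deform (Groth.SmoothLift.isFiniteOrderThickening_specRes A) hcX hcY ξ.i_f).1
    inferInstance

/-- Two lifts of a deformation of a smooth affine scheme are isomorphic compatibly. -/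
theorem exists_compatible {μ : B ⟶ A} (hμ : Function.Surjective μ) [IsLocallyNoetherian (Art.spec B)]
    {ξ : DefSch X x A} {η₁ η₂ : DefSch X x B} (φ₁ : SHom μ η₁ ξ) (φ₂ : SHom μ η₂ ξ) [Smooth x] [IsAffine X] :
    ∃ θ : SHom (𝟙 B) η₂ η₁, φ₁.hom ≫ θ.hom = φ₂.hom := by
  haveI := smooth_total η₁
  haveI := smooth_total η₂
  haveI : IsAffine η₁.total := by
    haveI : IsAffine (⊤ : η₁.total.Opens).toScheme := isAffineOpen_of_preimage η₁ ⊤ (isAffineOpen_top X)
    exact IsAffine.of_isIso (Scheme.topIso η₁.total).inv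
  haveI : IsLocallyNoetherian η₁.total := LocallyOfFiniteType.isLocallyNoetherian η₁.f
  haveI := φ₁.isClosedImmersion hμ
  haveI : Surjective φ₁.hom := φ₁.surjective
  obtain ⟨h, h1, h2⟩ := Groth.SmoothExt.exists_extend_affine φ₁.hom η₂.f φ₂.hom η₁.f
    (by rw [φ₁.hom_f, φ₂.hom_f])
  refine ⟨⟨h, by rw [h2, Art.specMap_id, Category.comp_id], ?_⟩, h1⟩
  rw [← φ₁.i_hom, Category.assoc, h1, φ₂.i_hom]

/-- Lifts glue along a smooth affine overlap. -/
theorem Lifts.sup {μ : B ⟶ A} (hμ : Function.Surjective μ) [IsLocallyNoetherian (Art.spec B)]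
    {ξ : DefSch X x A} {U V : X.Opens} (hU : Lifts μ ξ U) (hV : Lifts μ ξ V)
    (hW : IsAffineOpen (U ⊓ V)) (hs : Smooth ((U ⊓ V).ι ≫ x)) : Lifts μ ξ (U ⊔ V) := by
  obtain ⟨ηU, ⟨φU⟩⟩ := hU
  obtain ⟨ηV, ⟨φV⟩⟩ := hV
  haveI := hs
  haveI : IsAffine (U ⊓ V).toScheme := hW
  have hlU : U ⊓ V ≤ U := inf_le_left
  have hlV : U ⊓ V ≤ V := inf_le_right
  have hUO : U ≤ U ⊔ V := le_sup_left
  have hVO : V ≤ U ⊔ V := le_sup_right
  let gU := X.homOfLE hlU
  let gV := X.homOfLE hlV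
  let uU := X.homOfLE hUO
  let uV := X.homOfLE hVO
  let sU := ξ.total.homOfLE (liftOpen_mono ξ hlU)
  let sV := ξ.total.homOfLE (liftOpen_mono ξ hlV)
  let tU := ξ.total.homOfLE (liftOpen_mono ξ hUO)
  let tV := ξ.total.homOfLE (liftOpen_mono ξ hVO)
  obtain ⟨ψU, hψU⟩ := exists_lift (g := gU) (hw := Scheme.homOfLE_ι_assoc X hlU x)
    (ξ := ηU) (μ := μ) (ξ' := pull (U ⊓ V).ι rfl ξ) (sU ≫ φU.hom)
    (by
      rw [Category.assoc, φU.hom_f]
      exact (Category.assoc _ _ _).symm.trans (congrArg (· ≫ Art.specMap μ) (Scheme.homOfLE_ι_assoc _ _ _)))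
    (by
      change pullI (U ⊓ V).ι ξ ≫ sU ≫ φU.hom = _
      rw [← Category.assoc, pullI_homOfLE ξ hlU, Category.assoc]
      exact congrArg (gU ≫ ·) φU.i_hom)
  obtain ⟨ψV, hψV⟩ := exists_lift (g := gV) (hw := Scheme.homOfLE_ι_assoc X hlV x)
    (ξ := ηV) (μ := μ) (ξ' := pull (U ⊓ V).ι rfl ξ) (sV ≫ φV.hom)
    (by
      rw [Category.assoc, φV.hom_f]
      exact (Category.assoc _ _ _).symm.trans (congrArg (· ≫ Art.specMap μ) (Scheme.homOfLE_ι_assoc _ _ _)))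
    (by
      change pullI (U ⊓ V).ι ξ ≫ sV ≫ φV.hom = _
      rw [← Category.assoc, pullI_homOfLE ξ hlV, Category.assoc]
      exact congrArg (gV ≫ ·) φV.i_hom)
  obtain ⟨θ, hθ⟩ := exists_compatible hμ ψU ψV
  haveI : IsIso θ.hom := θ.isIso
  let oU := liftOpen ηU gU.opensRange
  let oV := liftOpen ηV gV.opensRange
  let e₁ : oU.toScheme ⟶ ηU.total := oU.ι
  let e₂ : oU.toScheme ⟶ ηV.total := θ.hom ≫ oV.ι
  haveI : IsOpenImmersion e₁ := inferInstanceAs (IsOpenImmersion oU.ι)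
  haveI : IsOpenImmersion e₂ := inferInstanceAs (IsOpenImmersion (θ.hom ≫ oV.ι))
  let inl := pushout.inl e₁ e₂
  let inr := pushout.inr e₁ e₂
  have hcond : e₁ ≫ inl = e₂ ≫ inr := pushout.condition
  have hθi : pullI gU ηU ≫ θ.hom = pullI gV ηV := θ.i_hom
  have hfe : e₁ ≫ ηU.f = e₂ ≫ ηV.f := by
    have h := θ.hom_f
    rw [Art.specMap_id, Category.comp_id] at h
    exact h.symm.trans (Category.assoc _ _ _).symm
  let f : pushout e₁ e₂ ⟶ Art.spec B := pushout.desc ηU.f ηV.f hfe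
  have hflU : inl ≫ f = ηU.f := pushout.inl_desc _ _ _
  have hflV : inr ≫ f = ηV.f := pushout.inr_desc _ _ _
  have hcovO : ∀ o, o ∈ Set.range uU ∨ o ∈ Set.range uV := fun o => by
    rcases o.2 with h | h
    · exact Or.inl ⟨⟨o.1, h⟩, Subtype.ext (Scheme.homOfLE_apply _ _)⟩
    · exact Or.inr ⟨⟨o.1, h⟩, Subtype.ext (Scheme.homOfLE_apply _ _)⟩
  have hgi : gU ≫ ηU.i ≫ inl = gV ≫ ηV.i ≫ inr := by
    have a1 : pullI gU ηU ≫ e₁ = gU ≫ ηU.i := pullI_ι gU ηU
    have a2 : pullI gU ηU ≫ e₂ = gV ≫ ηV.i := by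
      rw [← pullI_ι gV ηV, ← hθi, Category.assoc]
    rw [← Category.assoc, ← a1, Category.assoc, hcond, ← Category.assoc, a2, Category.assoc]
  obtain ⟨i, hiU, hiV⟩ := Groth.LocImmersion.exists_glue uU uV hcovO (ηU.i ≫ inl) (ηV.i ≫ inr) (by
    have hp := isPullback_homOfLE (a := U) (b := V) hlU hlV hUO hVO le_rfl
    rw [← cancel_epi hp.isoPullback.hom, hp.isoPullback_hom_fst_assoc, hp.isoPullback_hom_snd_assoc]
    exact hgi)
  have hflat : Flat f := by
    refine IsZariskiLocalAtSource.of_openCover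
      (Groth.LocImmersion.coverTwo inl inr (Groth.LocImmersion.mem_range_inl_or_inr e₁ e₂)) ?_
    rintro ⟨_ | _⟩
    · change Flat (inr ≫ f); rw [hflV]; exact ηV.flat
    · change Flat (inl ≫ f); rw [hflU]; exact ηU.flat
  have hmeet : ∀ (a : U.toScheme) (b : V.toScheme), inl (ηU.i a) = inr (ηV.i b) → a.1 = b.1 := by
    intro a b hab
    obtain ⟨q, hq1, hq2⟩ := Groth.LocImmersion.exists_of_inl_eq_inr e₁ e₂ hab
    obtain ⟨z, rfl⟩ := (bijective_i (pull gU (Scheme.homOfLE_ι_assoc X hlU x) ηU)).2 q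
    have c1 : ηU.i (gU z) = ηU.i a := by
      rw [← hq1, ← Scheme.Hom.comp_apply, ← pullI_ι gU ηU]
      exact Scheme.Hom.comp_apply _ _ _
    have c2 : ηV.i (gV z) = ηV.i b := by
      rw [← hq2, ← Scheme.Hom.comp_apply, ← pullI_ι gV ηV, ← hθi, Category.assoc]
      exact Scheme.Hom.comp_apply _ _ _
    rw [← (bijective_i ηU).1 c1, ← (bijective_i ηV).1 c2, Scheme.homOfLE_apply, Scheme.homOfLE_apply]
  have hpU : IsPullback uU (ηU.i) i inl := by
    refine (IsOpenImmersion.isPullback (ηU.i) uU inl i hiU ?_).flip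
    ext o
    constructor
    · rintro ⟨q, hq⟩
      obtain ⟨a, rfl⟩ := (bijective_i ηU).2 q
      rcases hcovO o with ⟨a', rfl⟩ | ⟨b, rfl⟩
      · exact ⟨a', rfl⟩
      · rw [← Scheme.Hom.comp_apply uV, hiV, Scheme.Hom.comp_apply] at hq
        exact ⟨a, Subtype.ext (by rw [Scheme.homOfLE_apply, Scheme.homOfLE_apply, hmeet a b hq])⟩
    · rintro ⟨a, rfl⟩
      exact ⟨ηU.i a, by rw [← Scheme.Hom.comp_apply, ← Scheme.Hom.comp_apply, hiU]⟩
  have hpV : IsPullback uV (ηV.i) i inr := by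
    refine (IsOpenImmersion.isPullback (ηV.i) uV inr i hiV ?_).flip
    ext o
    constructor
    · rintro ⟨q, hq⟩
      obtain ⟨b, rfl⟩ := (bijective_i ηV).2 q
      rcases hcovO o with ⟨a, rfl⟩ | ⟨b', rfl⟩
      · rw [← Scheme.Hom.comp_apply uU, hiU, Scheme.Hom.comp_apply] at hq
        exact ⟨b, Subtype.ext (by rw [Scheme.homOfLE_apply, Scheme.homOfLE_apply, hmeet a b hq.symm])⟩
      · exact ⟨b', rfl⟩
    · rintro ⟨a, rfl⟩
      exact ⟨ηV.i a, by rw [← Scheme.Hom.comp_apply, ← Scheme.Hom.comp_apply, hiV]⟩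
  have hsqU : IsPullback ηU.i (uU ≫ (U ⊔ V).ι ≫ x) (inl ≫ f) (Art.specRes B) := by
    rw [hflU, Scheme.homOfLE_ι_assoc]; exact ηU.isPullback
  have hsqV : IsPullback ηV.i (uV ≫ (U ⊔ V).ι ≫ x) (inr ≫ f) (Art.specRes B) := by
    rw [hflV, Scheme.homOfLE_ι_assoc]; exact ηV.isPullback
  have hsq : IsPullback i ((U ⊔ V).ι ≫ x) f (Art.specRes B) := by
    refine Scheme.isPullback_of_openCover _ _ _ _
      (Groth.LocImmersion.coverTwo inl inr (Groth.LocImmersion.mem_range_inl_or_inr e₁ e₂)) ?_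
    rintro ⟨_ | _⟩
    · refine hsqV.of_iso hpV.isoPullback (Iso.refl _) (Iso.refl _) (Iso.refl _) ?_ ?_ ?_ ?_
      · exact (Category.comp_id _).trans hpV.isoPullback_hom_snd.symm
      · simp only [Iso.refl_hom, Category.comp_id]
        exact ((Category.assoc _ _ _).symm.trans (congrArg (· ≫ _) hpV.isoPullback_hom_fst)).symm
      · simp
        rfl
      · simp
    · refine hsqU.of_iso hpU.isoPullback (Iso.refl _) (Iso.refl _) (Iso.refl _) ?_ ?_ ?_ ?_
      · exact (Category.comp_id _).trans hpU.isoPullback_hom_snd.symm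
      · simp only [Iso.refl_hom, Category.comp_id]
        exact ((Category.assoc _ _ _).symm.trans (congrArg (· ≫ _) hpU.isoPullback_hom_fst)).symm
      · simp
        rfl
      · simp
  let η : DefSch (U ⊔ V).toScheme ((U ⊔ V).ι ≫ x) B := ⟨pushout e₁ e₂, f, hflat, i, hsq⟩
  have hcovT : ∀ q, q ∈ Set.range tU ∨ q ∈ Set.range tV := fun q => by
    obtain ⟨o, rfl⟩ := (bijective_i (pull (U ⊔ V).ι rfl ξ)).2 q
    rcases hcovO o with ⟨a, rfl⟩ | ⟨b, rfl⟩
    · exact Or.inl ⟨pullI U.ι ξ a, by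
        rw [← Scheme.Hom.comp_apply, pullI_homOfLE ξ hUO]; rfl⟩
    · exact Or.inr ⟨pullI V.ι ξ b, by
        rw [← Scheme.Hom.comp_apply, pullI_homOfLE ξ hVO]; rfl⟩
  have hψ : sU ≫ φU.hom ≫ inl = sV ≫ φV.hom ≫ inr := by
    have a1 : ψU.hom ≫ e₁ = sU ≫ φU.hom := hψU
    have a2 : ψU.hom ≫ e₂ = sV ≫ φV.hom := by
      rw [← hψV, ← hθ, Category.assoc]
    rw [← Category.assoc, ← a1, Category.assoc, hcond, ← Category.assoc, a2, Category.assoc]
  obtain ⟨G, hGU, hGV⟩ := Groth.LocImmersion.exists_glue tU tV hcovT (φU.hom ≫ inl) (φV.hom ≫ inr) (by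
    have hp := isPullback_homOfLE (liftOpen_mono ξ hlU) (liftOpen_mono ξ hlV) (liftOpen_mono ξ hUO)
      (liftOpen_mono ξ hVO) (opens_le_of_preimage_le ξ (by
        rw [Scheme.Hom.preimage_inf, preimage_liftOpen, preimage_liftOpen, preimage_liftOpen,
          Scheme.Opens.opensRange_ι, Scheme.Opens.opensRange_ι, Scheme.Opens.opensRange_ι]))
    rw [← cancel_epi hp.isoPullback.hom, hp.isoPullback_hom_fst_assoc, hp.isoPullback_hom_snd_assoc]
    exact hψ)
  refine ⟨η, ⟨⟨G, ?_, ?_⟩⟩⟩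
  · refine hom_ext_two tU tV hcovT ?_ ?_
    · change tU ≫ G ≫ f = _
      rw [← Category.assoc, hGU, Category.assoc, hflU, φU.hom_f]
      exact ((congrArg (· ≫ Art.specMap μ) (Scheme.homOfLE_ι_assoc _ (liftOpen_mono ξ hUO) ξ.f).symm).trans
        (Category.assoc _ _ _))
    · change tV ≫ G ≫ f = _
      rw [← Category.assoc, hGV, Category.assoc, hflV, φV.hom_f]
      exact ((congrArg (· ≫ Art.specMap μ) (Scheme.homOfLE_ι_assoc _ (liftOpen_mono ξ hVO) ξ.f).symm).trans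
        (Category.assoc _ _ _))
  · refine hom_ext_two uU uV hcovO ?_ ?_
    · change uU ≫ pullI (U ⊔ V).ι ξ ≫ G = uU ≫ i
      rw [hiU, ← Category.assoc, ← pullI_homOfLE ξ hUO, Category.assoc, hGU, ← Category.assoc]
      exact congrArg (· ≫ inl) φU.i_hom
    · change uV ≫ pullI (U ⊔ V).ι ξ ≫ G = uV ≫ i
      rw [hiV, ← Category.assoc, ← pullI_homOfLE ξ hVO, Category.assoc, hGV, ← Category.assoc]
      exact congrArg (· ≫ inr) φV.i_hom

/-- A lift over the whole scheme. -/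
theorem Lifts.exists_cl {μ : B ⟶ A} {ξ : DefSch X x A} (h : Lifts μ ξ ⊤) :
    ∃ η : DefSch X x B, Nonempty (SHom μ η ξ) := by
  obtain ⟨η, ⟨φ⟩⟩ := h
  let g : X ⟶ (⊤ : X.Opens).toScheme := (Scheme.topIso X).inv
  have hg : g ≫ (⊤ : X.Opens).ι = 𝟙 X := (Scheme.topIso X).inv_hom_id
  have hw : g ≫ (⊤ : X.Opens).ι ≫ x = x := by rw [← Category.assoc, hg, Category.id_comp]
  have htop : liftOpen ξ (⊤ : X.Opens).ι.opensRange = ⊤ := top_le_iff.1 (opens_le_of_preimage_le ξ (by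
    rw [preimage_liftOpen, Scheme.Opens.opensRange_ι]; exact le_top))
  let t : ξ.total ⟶ (liftOpen ξ (⊤ : X.Opens).ι.opensRange).toScheme :=
    IsOpenImmersion.lift (liftOpen ξ (⊤ : X.Opens).ι.opensRange).ι (𝟙 ξ.total) (by
      rw [Scheme.Opens.range_ι, htop]; exact fun _ _ => trivial)
  have ht : t ≫ (liftOpen ξ (⊤ : X.Opens).ι.opensRange).ι = 𝟙 _ := IsOpenImmersion.lift_fac _ _ _
  have hti : ξ.i ≫ t = g ≫ pullI (⊤ : X.Opens).ι ξ := by
    refine (cancel_mono (liftOpen ξ (⊤ : X.Opens).ι.opensRange).ι).1 ?_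
    rw [Category.assoc, ht, Category.comp_id, Category.assoc, pullI_ι, ← Category.assoc, hg, Category.id_comp]
  obtain ⟨ψ, -⟩ := exists_lift (g := g) (hw := hw) (ξ := η) (μ := μ) (ξ' := ξ) (t ≫ φ.hom)
    (by
      rw [Category.assoc, φ.hom_f]
      change t ≫ (_ ≫ ξ.f) ≫ _ = _
      rw [Category.assoc, ← Category.assoc t, ht, Category.id_comp])
    (by rw [← Category.assoc, hti, Category.assoc]; exact congrArg (g ≫ ·) φ.i_hom)
  exact ⟨_, ⟨ψ⟩⟩

/-- Lifts over an open from a lift over a scheme isomorphic to it. -/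
theorem Lifts.of_range {μ : B ⟶ A} {ξ : DefSch X x A} {W : Scheme.{u}} (g : W ⟶ X) [IsOpenImmersion g]
    {w : W ⟶ Art.specPt k} (hw : g ≫ x = w) {η : DefSch W w B} (φ : SHom μ η (pull g hw ξ)) {U : X.Opens}
    (hU : g.opensRange = U) : Lifts μ ξ U := by
  let a : U.toScheme ⟶ W := IsOpenImmersion.lift g U.ι (by
    rw [Scheme.Opens.range_ι, ← hU]; exact fun _ h => h)
  have ha : a ≫ g = U.ι := IsOpenImmersion.lift_fac _ _ _
  haveI : IsOpenImmersion (a ≫ g) := by rw [ha]; infer_instance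
  haveI : IsOpenImmersion a := IsOpenImmersion.of_comp a g
  have hwa : a ≫ w = U.ι ≫ x := by rw [← hw, ← Category.assoc, ha]
  have hop : liftOpen ξ U.ι.opensRange ≤ liftOpen ξ g.opensRange := opens_le_of_preimage_le ξ (by
    rw [preimage_liftOpen, preimage_liftOpen, Scheme.Opens.opensRange_ι, hU])
  have hti : pullI U.ι ξ ≫ ξ.total.homOfLE hop = a ≫ pullI g ξ := by
    refine (cancel_mono (liftOpen ξ g.opensRange).ι).1 ?_
    rw [Category.assoc, Scheme.homOfLE_ι, pullI_ι, Category.assoc, pullI_ι, ← Category.assoc, ha]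
  obtain ⟨ψ, -⟩ := exists_lift (g := a) (hw := hwa) (ξ := η) (μ := μ) (ξ' := pull U.ι rfl ξ)
    (ξ.total.homOfLE hop ≫ φ.hom)
    (by
      rw [Category.assoc, φ.hom_f]
      exact (Category.assoc _ _ _).symm.trans (congrArg (· ≫ Art.specMap μ) (Scheme.homOfLE_ι_assoc _ _ _)))
    (by rw [← Category.assoc, hti, Category.assoc]; exact congrArg (a ≫ ·) φ.i_hom)
  exact ⟨_, ⟨ψ⟩⟩

end Groth.CurveUnobs
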