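import Groth.Agent.CurveUnobs.Glue
import Groth.Agent.Curves1.CurveMor.Basic
import Groth.Agent.EulerDeg.Birational
import Groth.Agent.Flatmor4.FlatDedekind
import Groth.Agent.KoszulLCI.Smooth
import Groth.Agent.S9363
import Groth.Agent.S9287
import Groth.Agent.S1607
import Groth.Agent.S12310

/-!
Generically smooth local complete intersection curves are unobstructed.
-/

set_option autoImplicit false
set_option linter.style.longLine false
set_option linter.style.haveILetI false

noncomputable section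

universe u

open CategoryTheory AlgebraicGeometry Limits TopologicalSpace

namespace Groth.CurveUnobs

open ArtFun Groth.ArtfunDeform Groth.SGA7Def

variable {k : Type u} [Field k] {X : Scheme.{u}} {x : X ⟶ Art.specPt k}

theorem isLCI_section (hlci : ∀ p : X, Synt.IsSyntomicAt x p) {V : X.Opens} (hV : IsAffineOpen V) :
    letI := algW x V
    LCI.IsLCI k Γ(X, V) := by
  letI := algW x V
  let k' := Γ(Art.specPt k, ⊤)
  have hs := (Groth.Agent.S9363.result x).1 hlci ⟨V, hV⟩ ⟨⊤, isAffineOpen_top _⟩ le_top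
  letI : Algebra k' Γ(X, V) := (x.appLE ⊤ V le_top).hom.toAlgebra
  have h1 : LCI.IsLCI k' Γ(X, V) := ((Groth.Agent.S9287.result _ _).1 hs).2
  letI : Algebra k k' := (Scheme.ΓSpecIso (CommRingCat.of k)).inv.hom.toAlgebra
  haveI : IsScalarTower k k' Γ(X, V) := IsScalarTower.of_algebraMap_eq' rfl
  haveI : Algebra.Smooth k k' := RingHom.smooth_algebraMap.1
    (RingHom.Smooth.of_bijective (ConcreteCategory.bijective_of_isIso (Scheme.ΓSpecIso (CommRingCat.of k)).inv))
  exact Groth.KoszulLCI.isLCI_trans (Groth.KoszulLCI.isLCI_of_smooth k') h1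

theorem lifts_of_affine (hlci : ∀ p : X, Synt.IsSyntomicAt x p) {A B : Art k k} {μ : B ⟶ A}
    (hμ : Function.Surjective μ) (ξ : DefSch X x A) {V : X.Opens} (hV : IsAffineOpen V) : Lifts μ ξ V := by
  letI := algW x V
  have h := Groth.Agent.S12310.result k k (fun a => ⟨a, rfl⟩) Γ(X, V) (isLCI_section hlci hV)
  have hw : hV.fromSpec ≫ x = Spec.map (CommRingCat.ofHom (algebraMap k Γ(X, V))) := fromSpec_comp_eq x hV
  obtain ⟨q, hq⟩ := h μ hμ (pull hV.fromSpec hw ξ).cl
  obtain ⟨η, rfl⟩ := exists_cl' q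
  obtain ⟨φ⟩ := map_cl_eq_iff'.1 hq
  exact Lifts.of_range hV.fromSpec hw φ hV.opensRange_fromSpec

theorem isLocallyNoetherian_spec {Λ : Type u} [CommRing Λ] [Algebra Λ k] (B : Art Λ k) :
    IsLocallyNoetherian (Art.spec B) := inferInstance

theorem exists_lift_of_curve [LocallyOfFiniteType x] [QuasiCompact x] (hdim : topologicalKrullDim X ≤ 1)
    (hlci : ∀ p : X, Synt.IsSyntomicAt x p) {Us : X.Opens} (hd : Dense (Us : Set X)) (hsm : Smooth (Us.ι ≫ x))
    {A B : Art k k} {μ : B ⟶ A} (hμ : Function.Surjective μ) (ξ : DefSch X x A) :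
    ∃ η : DefSch X x B, Nonempty (SHom μ η ξ) := by
  classical
  haveI := isLocallyNoetherian_spec B
  haveI : IsLocallyNoetherian X := LocallyOfFiniteType.isLocallyNoetherian x
  haveI : CompactSpace X := QuasiCompact.compactSpace_of_compactSpace x
  haveI : IsNoetherian X := {}
  haveI : NoetherianSpace X := inferInstance
  have hS : ((Us : Set X)ᶜ).Finite :=
    Groth.Curves1.CurveMor.finite_of_forall_isClosed Us.2.isClosed_compl fun p hp => by
      by_contra hc
      exact hp (Groth.EulerDeg.mem_of_dense hdim hd hc)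
  have hcl : ∀ T : Set X, T ⊆ (Us : Set X)ᶜ → IsClosed T := fun T hT =>
    (Set.biUnion_of_singleton T) ▸ (hS.subset hT).isClosed_biUnion fun p hp => by
      by_contra hc
      exact hT hp (Groth.EulerDeg.mem_of_dense hdim hd hc)
  have hopen : ∀ {V W : X.Opens}, IsAffineOpen V → W ≤ V → IsAffineOpen W := by
    intro V W hV hWV
    haveI : IsAffine V.toScheme := hV
    haveI : IsLocallyNoetherian V.toScheme := LocallyOfFiniteType.isLocallyNoetherian (V.ι ≫ x)
    haveI : NoetherianSpace V.toScheme := V.ι.isEmbedding.isInducing.noetherianSpace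
    have hW : IsAffineOpen (V.ι ⁻¹ᵁ W) := Groth.Agent.S1607.result V.toScheme
      (fun p => ⟨inferInstance, (Groth.Flatmor4.ringKrullDim_stalk_le p).trans
        ((V.ι.isEmbedding.isInducing.topologicalKrullDim_le).trans hdim)⟩) _
      (NoetherianSpace.isCompact _)
    have h2 := hW.image_of_isOpenImmersion V.ι
    rwa [V.ι.image_preimage_eq_opensRange_inf, Scheme.Opens.opensRange_ι, inf_eq_right.2 hWV] at h2
  suffices h : ∀ s : Finset X.affineOpens, Lifts μ ξ (s.sup Subtype.val) by
    obtain ⟨s, hs⟩ := (isCompact_univ (X := X)).elim_finite_subcover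
      (fun V : X.affineOpens => (V.1 : Set X)) (fun V => V.1.2) (fun p _ => by
        obtain ⟨_, ⟨V, hV, rfl⟩, hp, -⟩ := X.isBasis_affineOpens.exists_subset_of_mem_open (Set.mem_univ p) isOpen_univ
        exact Set.mem_iUnion.2 ⟨⟨V, hV⟩, hp⟩)
    have hsup : s.sup Subtype.val = (⊤ : X.Opens) := top_le_iff.1 fun p _ => by
      obtain ⟨V, hV, hp⟩ := Set.mem_iUnion₂.1 (hs (Set.mem_univ p))
      exact (Finset.le_sup (f := Subtype.val) hV) hp
    exact (hsup ▸ h s).exists_cl
  intro s
  induction s using Finset.induction with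
  | empty => rw [Finset.sup_empty]; exact lifts_of_affine hlci hμ ξ (isAffineOpen_bot X)
  | @insert a s _ ih =>
    let O : X.Opens := s.sup Subtype.val
    let T : Set X := (O : Set X) ∩ (Us : Set X)ᶜ
    let V : X.Opens := a.1 ⊓ ⟨Tᶜ, (hcl T Set.inter_subset_right).isOpen_compl⟩
    have hV : IsAffineOpen V := hopen a.2 inf_le_left
    have hW : IsAffineOpen (O ⊓ V) := hopen hV inf_le_right
    have hWs : O ⊓ V ≤ Us := fun p hp => not_not.1 fun h => hp.2.2 ⟨hp.1, h⟩
    have hs' : Smooth ((O ⊓ V).ι ≫ x) := by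
      rw [← Scheme.homOfLE_ι X hWs, Category.assoc]
      infer_instance
    have heq : O ⊔ V = (insert a s).sup Subtype.val := by
      rw [Finset.sup_insert, sup_comm]
      refine le_antisymm (sup_le_sup inf_le_left le_rfl |>.trans le_rfl) (sup_le (fun p hp => ?_) le_sup_right)
      by_cases hT : p ∈ T
      · exact Or.inr hT.1
      · exact Or.inl ⟨hp, hT⟩
    rw [← heq]
    exact Lifts.sup hμ ih (lifts_of_affine hlci hμ ξ hV) hW hs'

/-- Generically smooth local complete intersection curves have smooth deformation functors. -/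
theorem isSmoothFunctor [LocallyOfFiniteType x] [QuasiCompact x] (hdim : topologicalKrullDim X ≤ 1)
    (hlci : ∀ p : X, Synt.IsSyntomicAt x p) {Us : X.Opens} (hd : Dense (Us : Set X)) (hsm : Smooth (Us.ι ≫ x)) :
    IsSmoothFunctor (defFunctor (Λ := k) X x) := by
  intro B A μ hμ q
  obtain ⟨ξ, rfl⟩ := exists_cl' q
  obtain ⟨η, hη⟩ := exists_lift_of_curve hdim hlci hd hsm hμ ξ
  exact ⟨η.cl, map_cl_eq_iff'.2 hη⟩

end Groth.CurveUnobs
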